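import Groth.Agent.GammaProd.Basic
import Groth.Agent.Rigid.Lemma
import Groth.Agent.Rigid.Smooth
import Groth.Agent.SteinGen.Basic

/-!
`f_* O_X = O_S` for proper flat morphisms with geometrically connected and reduced fibres.
-/

set_option autoImplicit false
set_option backward.isDefEq.respectTransparency false

universe u

open CategoryTheory CategoryTheory.Limits AlgebraicGeometry TensorProduct TopologicalSpace

namespace Groth.Agent.StructPush

theorem bijective_appTop {X S : Scheme.{u}} [IsAffine S] (g : X ⟶ S) [IsProper g] [Flat g]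
    [LocallyOfFinitePresentation g] [Surjective g] [GeometricallyConnected g] [GeometricallyReduced g] :
    Function.Bijective g.appTop := by
  haveI : X.IsSeparated := ⟨by
    rw [show terminal.from X = g ≫ terminal.from S from Subsingleton.elim _ _]; infer_instance⟩
  haveI : CompactSpace X := QuasiCompact.compactSpace_of_compactSpace g
  let 𝒰 := X.affineCover.finiteSubcover
  haveI : ∀ i, IsAffine (𝒰.X i) := fun i => inferInstanceAs (IsAffine (X.affineCover.X _))
  let T : Scheme.{u} := ∐ 𝒰.X
  haveI : IsAffine T := inferInstance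
  let π : T ⟶ X := Sigma.desc 𝒰.f
  haveI : Flat π := IsZariskiLocalAtSource.sigmaDesc (P := @Flat) fun i => inferInstance
  haveI : Surjective π := Surjective.sigmaDesc_of_union_range_eq_univ 𝒰.iUnion_range
  let h : T ⟶ S := π ≫ g
  have hF : h.appTop.hom.FaithfullyFlat := by
    rw [← flat_and_surjective_SpecMap_iff]
    exact ⟨(MorphismProperty.arrow_mk_iso_iff (P := @Flat) (arrowIsoSpecΓOfIsAffine h)).mp inferInstance,
      (MorphismProperty.arrow_mk_iso_iff (P := @Surjective) (arrowIsoSpecΓOfIsAffine h)).mp inferInstance⟩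
  -- the pulled back morphism has a section
  let r := pullback.snd g h
  haveI : IsProper r := MorphismProperty.pullback_snd _ _ inferInstance
  haveI : Flat r := MorphismProperty.pullback_snd _ _ inferInstance
  haveI : LocallyOfFinitePresentation r := MorphismProperty.pullback_snd _ _ inferInstance
  haveI : GeometricallyConnected r := MorphismProperty.pullback_snd _ _ inferInstance
  haveI : GeometricallyReduced r := MorphismProperty.pullback_snd _ _ inferInstance
  have hr : Function.Bijective r.appTop :=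
    Rigid.bijective_appTop_of_section r (Rigid.goodFibres_of_geometrically r)
      (pullback.lift π (𝟙 T) (by simp [h])) (pullback.lift_snd _ _ _)
  have HP := GammaProd.isPushout_appTop hF.flat (IsPullback.of_hasPullback g h)
  algebraize [g.appTop.hom, h.appTop.hom]
  haveI : Module.FaithfullyFlat Γ(S, ⊤) Γ(T, ⊤) := hF
  have PY := CommRingCat.isPushout_tensorProduct Γ(S, ⊤) Γ(X, ⊤) Γ(T, ⊤)
  let d := PY.desc (pullback.fst g h).appTop r.appTop HP.w
  haveI : IsIso d := FinFibImage.isIso_desc_of_isPushout PY _ _ HP.w HP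
  have hinc : Function.Bijective (fun b : Γ(T, ⊤) => (1 : Γ(X, ⊤)) ⊗ₜ[Γ(S, ⊤)] b) := by
    have e : (d.hom : _ → _) ∘ (fun b : Γ(T, ⊤) => (1 : Γ(X, ⊤)) ⊗ₜ[Γ(S, ⊤)] b) = r.appTop := by
      funext b
      exact congr($(PY.inr_desc (pullback.fst g h).appTop r.appTop HP.w).hom b)
    exact (Function.Bijective.of_comp_iff' (ConcreteCategory.bijective_of_isIso d) _).mp (e ▸ hr)
  have hl : Function.Bijective ((Algebra.linearMap Γ(S, ⊤) Γ(X, ⊤)).lTensor Γ(T, ⊤)) := by
    have e : ((TensorProduct.comm Γ(S, ⊤) Γ(T, ⊤) Γ(X, ⊤)).toLinearMap ∘ₗ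
        (Algebra.linearMap Γ(S, ⊤) Γ(X, ⊤)).lTensor Γ(T, ⊤) : _ → _) =
        (fun b : Γ(T, ⊤) => (1 : Γ(X, ⊤)) ⊗ₜ[Γ(S, ⊤)] b) ∘ TensorProduct.rid Γ(S, ⊤) Γ(T, ⊤) := by
      funext z
      induction z using TensorProduct.induction_on with
      | zero => simp
      | tmul b a => simp [Algebra.algebraMap_eq_smul_one, TensorProduct.smul_tmul]
      | add x y hx hy =>
        simp only [Function.comp_apply, map_add] at hx hy ⊢
        rw [hx, hy, TensorProduct.tmul_add]
    have hb := hinc.comp (TensorProduct.rid Γ(S, ⊤) Γ(T, ⊤)).bijective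
    rw [← e] at hb
    exact (Function.Bijective.of_comp_iff' (TensorProduct.comm Γ(S, ⊤) Γ(T, ⊤) Γ(X, ⊤)).bijective _).mp hb
  exact (Module.FaithfullyFlat.lTensor_bijective_iff_bijective Γ(S, ⊤) Γ(T, ⊤) _).mp hl

theorem isIso_app {X S : Scheme.{u}} (g : X ⟶ S) [IsProper g] [Flat g]
    [LocallyOfFinitePresentation g] [Surjective g] [GeometricallyConnected g] [GeometricallyReduced g]
    (V : S.Opens) : IsIso (g.app V) := by
  refine SteinGen.isIso_app_of_affine_cover g (fun W : S.affineOpens => W.1) (fun W => W.2)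
    (fun y => ?_) (fun W => ?_) V
  · obtain ⟨W, hW, hy, -⟩ := exists_isAffineOpen_mem_and_subset (show y ∈ (⊤ : S.Opens) from trivial)
    exact ⟨⟨W, hW⟩, hy⟩
  haveI : IsAffine (W.1 : Scheme.{u}) := W.2
  haveI : GeometricallyConnected (g ∣_ W.1) :=
    MorphismProperty.of_isPullback (isPullback_morphismRestrict g W.1).flip ‹_›
  haveI : GeometricallyReduced (g ∣_ W.1) :=
    MorphismProperty.of_isPullback (isPullback_morphismRestrict g W.1).flip ‹_›
  haveI : Surjective (g ∣_ W.1) :=
    MorphismProperty.of_isPullback (isPullback_morphismRestrict g W.1).flip ‹_›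
  have hb := bijective_appTop (g ∣_ W.1)
  rw [← ConcreteCategory.isIso_iff_bijective] at hb ⊢
  rw [morphismRestrict_appTop] at hb
  haveI := hb
  have hcast : ∀ U : S.Opens, U = W.1 → IsIso (g.app U) → IsIso (g.app W.1) := by
    rintro U rfl h
    exact h
  refine hcast _ W.1.ι_image_top (@IsIso.of_isIso_comp_right _ _ _ _ _ _ _ ?_ hb)
  infer_instance

end Groth.Agent.StructPush
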